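import Mathlib.Algebra.Homology.DerivedCategory.Ext.ExactSequences
import Mathlib.Algebra.Homology.DerivedCategory.Ext.ExtClass
import Mathlib.Algebra.Homology.DerivedCategory.TStructure
import Mathlib.Algebra.Homology.DerivedCategory.HomologySequence
import Mathlib.Algebra.Homology.DerivedCategory.FullyFaithful
import Mathlib.Algebra.Homology.DerivedCategory.SingleTriangle

/-!
Classes in `Ext¹` are classes of extensions; maps between extensions with compatible classes.
-/

universe w v u

open CategoryTheory Limits Pretriangulated Abelian DerivedCategory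

namespace Groth.Agent.BlendLib

variable {C : Type u} [Category.{v} C] [Abelian C]

section

variable [HasDerivedCategory.{max u v} C]

theorem isZero_homology_single (X : C) {n : ℤ} (hn : n ≠ 0) :
    IsZero ((homologyFunctor C n).obj ((singleFunctor C 0).obj X)) := by
  rcases lt_or_gt_of_ne hn with h | h
  · exact (DerivedCategory.isGE_iff _ 0).1 inferInstance n h
  · exact (DerivedCategory.isLE_iff _ 0).1 inferInstance n h

theorem exists_triangle_single {P Q : C}
    (δ : (singleFunctor C 0).obj Q ⟶ ((singleFunctor C 0).obj P)⟦(1 : ℤ)⟧) :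
    ∃ (X : C) (a : P ⟶ X) (b : X ⟶ Q) (w : a ≫ b = 0), (ShortComplex.mk a b w).ShortExact ∧
      Triangle.mk ((singleFunctor C 0).map a) ((singleFunctor C 0).map b) δ ∈ distTriang _ := by
  obtain ⟨Z, α, β, hT⟩ := distinguished_cocone_triangle₂ δ
  have hz : ∀ n : ℤ, n ≠ 0 → IsZero ((homologyFunctor C n).obj Z) := fun n hn =>
    (DerivedCategory.HomologySequence.exact₂ _ hT n).isZero_X₂
      ((isZero_homology_single P hn).eq_of_src _ _) ((isZero_homology_single Q hn).eq_of_tgt _ _)
  haveI : Z.IsGE 0 := (DerivedCategory.isGE_iff _ 0).2 fun n hn => hz n hn.ne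
  haveI : Z.IsLE 0 := (DerivedCategory.isLE_iff _ 0).2 fun n hn => hz n hn.ne'
  obtain ⟨X, ⟨e⟩⟩ := exists_iso_singleFunctor_obj_of_isGE_of_isLE Z 0
  obtain ⟨a, ha⟩ := (singleFunctor C 0).map_surjective (α ≫ e.hom)
  obtain ⟨b, hb⟩ := (singleFunctor C 0).map_surjective (e.inv ≫ β)
  have hT' : Triangle.mk ((singleFunctor C 0).map a) ((singleFunctor C 0).map b) δ ∈ distTriang _ := by
    refine isomorphic_distinguished _ hT _ (Triangle.isoMk _ _ (Iso.refl _) e.symm (Iso.refl _) ?_ ?_ ?_)
    · show (singleFunctor C 0).map a ≫ e.inv = 𝟙 _ ≫ α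
      rw [ha, Category.assoc, Iso.hom_inv_id, Category.comp_id, Category.id_comp]
    · show (singleFunctor C 0).map b ≫ 𝟙 _ = e.inv ≫ β
      rw [hb, Category.comp_id]
    · show δ ≫ (shiftFunctor (DerivedCategory C) (1 : ℤ)).map (𝟙 _) = 𝟙 _ ≫ δ
      exact (congrArg (δ ≫ ·) ((shiftFunctor (DerivedCategory C) (1 : ℤ)).map_id _)).trans
        ((Category.comp_id _).trans (Category.id_comp _).symm)
  have w : a ≫ b = 0 := (singleFunctor C 0).map_injective (by
    rw [Functor.map_comp, Functor.map_zero]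
    exact comp_distTriang_mor_zero₁₂ _ hT')
  have hm : Mono ((homologyFunctor C 0).map ((singleFunctor C 0).map a)) :=
    (DerivedCategory.HomologySequence.mono_homologyMap_mor₁_iff _ hT' (-1) 0 (by lia)).2
      ((isZero_homology_single Q (by lia)).eq_of_src _ _)
  have he : Epi ((homologyFunctor C 0).map ((singleFunctor C 0).map b)) :=
    (DerivedCategory.HomologySequence.epi_homologyMap_mor₂_iff _ hT' 0 1 (by lia)).2
      ((isZero_homology_single P (by lia)).eq_of_tgt _ _)
  let T := ShortComplex.mk ((homologyFunctor C 0).map ((singleFunctor C 0).map a))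
    ((homologyFunctor C 0).map ((singleFunctor C 0).map b))
    (by rw [← Functor.map_comp, ← Functor.map_comp, w, Functor.map_zero, Functor.map_zero])
  have hTe : T.ShortExact :=
    { exact := DerivedCategory.HomologySequence.exact₂ _ hT' 0, mono_f := hm, epi_g := he }
  refine ⟨X, a, b, w, ShortComplex.shortExact_of_iso ?_ hTe, hT'⟩
  exact ShortComplex.isoMk ((singleFunctorCompHomologyFunctorIso C 0).app P)
    ((singleFunctorCompHomologyFunctorIso C 0).app X) ((singleFunctorCompHomologyFunctorIso C 0).app Q)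
    ((singleFunctorCompHomologyFunctorIso C 0).hom.naturality a).symm
    ((singleFunctorCompHomologyFunctorIso C 0).hom.naturality b).symm

end

variable [HasExt.{w} C]

/-- Every class of degree one is the class of an extension. -/
theorem exists_extClass_eq {P Q : C} (x : Ext.{w} Q P 1) :
    ∃ (X : C) (a : P ⟶ X) (b : X ⟶ Q) (z : a ≫ b = 0) (hS : (ShortComplex.mk a b z).ShortExact),
      hS.extClass = x := by
  let := HasDerivedCategory.standard C
  obtain ⟨X, a, b, z, hS, hT⟩ := exists_triangle_single x.hom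
  refine ⟨X, a, b, z, hS, Ext.ext ?_⟩
  rw [ShortComplex.ShortExact.extClass_hom]
  obtain ⟨φ, h₂, h₃⟩ := complete_distinguished_triangle_morphism _ _ hS.singleTriangle_distinguished hT
    (𝟙 _) (𝟙 _) ((Category.comp_id _).trans (Category.id_comp _).symm)
  have h₂' : (singleFunctor C 0).map b ≫ φ = (singleFunctor C 0).map b := h₂.trans (Category.id_comp _)
  obtain ⟨ψ, rfl⟩ := (singleFunctor C 0).map_surjective φ
  haveI : Epi b := hS.epi_g
  have hψ : ψ = 𝟙 Q := (cancel_epi b).1 (by
    rw [Category.comp_id]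
    exact (singleFunctor C 0).map_injective (by rw [Functor.map_comp]; exact h₂'))
  subst hψ
  exact ((congrArg (hS.singleδ ≫ ·) ((shiftFunctor (DerivedCategory C) (1 : ℤ)).map_id _)).trans
    (Category.comp_id _)).symm.trans (h₃.trans ((congrArg (· ≫ _) ((singleFunctor C 0).map_id Q)).trans (Category.id_comp _)))

/-- A compatibility of classes gives a map of extensions. -/
theorem exists_hom_of_extClass {S T : ShortComplex C} (hS : S.ShortExact) (hT : T.ShortExact)
    (α : S.X₁ ⟶ T.X₁) (γ : S.X₃ ⟶ T.X₃)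
    (h : hS.extClass.comp (Ext.mk₀ α) (add_zero 1) = (Ext.mk₀ γ).comp hT.extClass (zero_add 1)) :
    ∃ β : S.X₂ ⟶ T.X₂, S.f ≫ β = α ≫ T.f ∧ S.g ≫ γ = β ≫ T.g := by
  let := HasDerivedCategory.standard C
  obtain ⟨φ, h₁, h₂⟩ := complete_distinguished_triangle_morphism₂ _ _ hS.singleTriangle_distinguished
    hT.singleTriangle_distinguished ((singleFunctor C 0).map α) ((singleFunctor C 0).map γ) (by
      have h' := congrArg Ext.hom h
      simp only [Ext.comp_hom, Ext.mk₀_hom, ShortComplex.ShortExact.extClass_hom, ShiftedHom.comp_mk₀,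
        ShiftedHom.mk₀_comp] at h'
      exact h')
  obtain ⟨β, rfl⟩ := (singleFunctor C 0).map_surjective φ
  exact ⟨β, (singleFunctor C 0).map_injective (by rw [Functor.map_comp, Functor.map_comp]; exact h₁),
    (singleFunctor C 0).map_injective (by rw [Functor.map_comp, Functor.map_comp]; exact h₂)⟩

/-- The blended extensions of `E` by `F` exist iff the composite of the two classes is zero. -/
theorem exists_blended_iff {P F R E Q : C} (a : P ⟶ F) (b : F ⟶ R) (wF : a ≫ b = 0)
    (hF : (ShortComplex.mk a b wF).ShortExact) (c : R ⟶ E) (d : E ⟶ Q) (wE : c ≫ d = 0)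
    (hE : (ShortComplex.mk c d wE).ShortExact) :
    (∃ (X : C) (i : F ⟶ X) (p : X ⟶ E), i ≫ p = b ≫ c ∧
      (∃ z : (a ≫ i) ≫ p = 0, (ShortComplex.mk (a ≫ i) p z).ShortExact) ∧
      (∃ z : i ≫ (p ≫ d) = 0, (ShortComplex.mk i (p ≫ d) z).ShortExact)) ↔
      hE.extClass.comp hF.extClass (rfl : 1 + 1 = 2) = 0 := by
  constructor
  · rintro ⟨X, i, p, hip, ⟨_, h₁⟩, _, h₂⟩
    have h := ShortComplex.ShortExact.extClass_naturality h₂ hE
      (ShortComplex.homMk b p (𝟙 Q) hip.symm (by simp))
    simp only [ShortComplex.homMk_τ₁, ShortComplex.homMk_τ₃, Ext.mk₀_id_comp] at h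
    rw [← h, Ext.comp_assoc_of_second_deg_zero]
    exact (congrArg (fun z => h₂.extClass.comp z (rfl : 1 + 1 = 2)) hF.comp_extClass).trans
      (Ext.comp_zero _ _ _ _ rfl)
  · intro h
    obtain ⟨x, hx⟩ := Ext.contravariant_sequence_exact₁ hE P hF.extClass (n₁ := 2) rfl h
    obtain ⟨X, a', p, z', hX, rfl⟩ := exists_extClass_eq x
    obtain ⟨i, hi₁, hi₂⟩ := exists_hom_of_extClass hF hX (𝟙 P) c (by rw [Ext.comp_mk₀_id]; exact hx.symm)
    dsimp at hi₁ hi₂
    rw [Category.id_comp] at hi₁
    haveI := hF.mono_f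
    haveI := hE.mono_f
    haveI := hE.epi_g
    haveI := hX.epi_g
    haveI := hX.mono_f
    haveI : Mono (a ≫ i) := hi₁.symm ▸ hX.mono_f
    have z : i ≫ p ≫ d = 0 := by
      rw [← Category.assoc, ← hi₂, Category.assoc, wE, comp_zero]
    haveI : Mono i := Preadditive.mono_of_cancel_zero _ fun {T} k hk => by
      have hkb : k ≫ b = 0 := by
        rw [← cancel_mono c, Category.assoc, hi₂, ← Category.assoc, hk, zero_comp, zero_comp]
      obtain ⟨l, hl⟩ := KernelFork.IsLimit.lift' hF.fIsKernel k hkb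
      replace hl : l ≫ a = k := hl
      have : l = 0 := zero_of_comp_mono (a ≫ i) (by rw [← Category.assoc, hl, hk])
      rw [← hl, this, zero_comp]
    haveI : Epi (p ≫ d) := epi_comp p d
    refine ⟨X, i, p, hi₂.symm, ⟨by rw [hi₁]; exact z', ?_⟩, z, { exact := ?_ }⟩
    · exact ShortComplex.shortExact_of_iso (ShortComplex.isoMk (S₁ := ShortComplex.mk a' p z') (S₂ := ShortComplex.mk (a ≫ i) p (by rw [hi₁]; exact z')) (Iso.refl _) (Iso.refl _) (Iso.refl _)
          ((Category.id_comp _).trans (hi₁.trans (Category.comp_id _).symm)) ((Category.id_comp _).trans (Category.comp_id _).symm)) hX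
    rw [ShortComplex.exact_iff_exact_up_to_refinements]
    intro A k hk
    dsimp at k hk ⊢
    rw [← Category.assoc] at hk
    obtain ⟨r, hr⟩ := KernelFork.IsLimit.lift' hE.fIsKernel (k ≫ p) hk
    replace hr : r ≫ c = k ≫ p := hr
    haveI := hF.epi_g
    refine ⟨pullback r b, pullback.fst r b, inferInstance, ?_⟩
    let s := pullback.snd r b
    have hs : (pullback.fst r b ≫ k - s ≫ i) ≫ p = 0 := by
      rw [Preadditive.sub_comp, Category.assoc, Category.assoc, ← hr, ← hi₂, pullback.condition_assoc, sub_self]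
    obtain ⟨t, ht⟩ := KernelFork.IsLimit.lift' hX.fIsKernel _ hs
    replace ht : t ≫ (a ≫ i) = pullback.fst r b ≫ k - s ≫ i := (congrArg (t ≫ ·) hi₁).trans ht
    exact ⟨s + t ≫ a, by rw [Preadditive.add_comp, Category.assoc, ht, add_sub_cancel]⟩

end Groth.Agent.BlendLib
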